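import Mathlib.Algebra.Category.Ring.Constructions
import Mathlib.RingTheory.Flat.Basic
import Mathlib.RingTheory.RingHom.Flat
import Mathlib.RingTheory.Localization.Away.Basic
import Mathlib.RingTheory.Localization.BaseChange

/-!
# Generated subrings and flat base change
-/

set_option autoImplicit false
set_option backward.isDefEq.respectTransparency false
set_option backward.isDefEq.respectTransparency.types false

universe u

open CategoryTheory TensorProduct

namespace Groth.Agent.H8.ZMT.Alg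

/-- The subring generated by the image of a subring under a flat base change is its base change. -/
theorem isPushout_closure {R R' B B' : Type u} [CommRing R] [CommRing R'] [CommRing B] [CommRing B']
    (φ : R →+* R') (π : R →+* B) (π' : R' →+* B') (ψ : B →+* B') (hflat : φ.Flat)
    (sq : IsPushout (CommRingCat.ofHom φ) (CommRingCat.ofHom π) (CommRingCat.ofHom π') (CommRingCat.ofHom ψ))
    (C : Subring B) (C' : Subring B') (hC : ∀ r, π r ∈ C) (hC' : ∀ r, π' r ∈ C')
    (hψ : ∀ x ∈ C, ψ x ∈ C')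
    (hgen : C' ≤ Subring.closure (Set.range π' ∪ ψ '' C)) :
    IsPushout (CommRingCat.ofHom φ) (CommRingCat.ofHom (π.codRestrict C hC))
      (CommRingCat.ofHom (π'.codRestrict C' hC'))
      (CommRingCat.ofHom ((ψ.comp C.subtype).codRestrict C' fun x => hψ x x.2)) := by
  algebraize [φ, π, π.codRestrict C hC]
  haveI : Module.Flat R R' := hflat
  let incl : C →ₐ[R] B := { C.subtype with commutes' := fun r => rfl }
  let e := ((CommRingCat.isPushout_tensorProduct R R' B).isoIsPushout _ _ sq).commRingCatIsoToRingEquiv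
  have eL : ∀ a : R', e (a ⊗ₜ 1) = π' a := fun a =>
    congrArg (fun h => h.hom a) ((CommRingCat.isPushout_tensorProduct R R' B).inl_isoIsPushout_hom _ _ sq)
  have eR : ∀ b : B, e (1 ⊗ₜ b) = ψ b := fun b =>
    congrArg (fun h => h.hom b) ((CommRingCat.isPushout_tensorProduct R R' B).inr_isoIsPushout_hom _ _ sq)
  let Θ : R' ⊗[R] C →+* B' :=
    e.toRingHom.comp (Algebra.TensorProduct.map (AlgHom.id R R') incl).toRingHom
  have hΘ : ∀ a (c : C), Θ (a ⊗ₜ c) = π' a * ψ c := fun a c => by
    change e (a ⊗ₜ (c : B)) = _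
    rw [← eL, ← eR, ← map_mul, Algebra.TensorProduct.tmul_mul_tmul, mul_one, one_mul]
  have hinj : Function.Injective Θ := e.injective.comp
    (Module.Flat.lTensor_preserves_injective_linearMap (M := R') incl.toLinearMap
      Subtype.val_injective)
  have hmem : ∀ t, Θ t ∈ C' := fun t => by
    induction t using TensorProduct.induction_on with
    | zero => rw [map_zero]; exact zero_mem _
    | tmul a c => rw [hΘ]; exact mul_mem (hC' a) (hψ c c.2)
    | add x y hx hy => rw [map_add]; exact add_mem hx hy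
  have hsurj : C' ≤ Θ.range := hgen.trans (Subring.closure_le.2 (by
    rintro _ (⟨a, rfl⟩ | ⟨c, hc, rfl⟩)
    · exact ⟨a ⊗ₜ 1, by rw [hΘ, OneMemClass.coe_one, map_one, mul_one]⟩
    · exact ⟨1 ⊗ₜ ⟨c, hc⟩, by rw [hΘ, map_one, one_mul]⟩))
  let E : R' ⊗[R] C ≃+* C' := RingEquiv.ofBijective (Θ.codRestrict C' hmem)
    ⟨fun x y h => hinj (congrArg Subtype.val h),
      fun x => (hsurj x.2).imp fun t ht => Subtype.ext ht⟩
  exact (CommRingCat.isPushout_tensorProduct R R' C).of_iso (Iso.refl _) (Iso.refl _) (Iso.refl _)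
    E.toCommRingCatIso (by simp; rfl) (by simp; rfl)
    (by
      refine CommRingCat.hom_ext (RingHom.ext fun a => Subtype.ext ?_)
      change Θ (a ⊗ₜ 1) = π' a
      rw [hΘ, OneMemClass.coe_one, map_one, mul_one])
    (by
      refine CommRingCat.hom_ext (RingHom.ext fun c => Subtype.ext ?_)
      change Θ (1 ⊗ₜ c) = ψ c
      rw [hΘ, map_one, one_mul])

theorem powers_le_comap {B : Type u} [CommRing B] {C : Subring B} {b : B} (hb : b ∈ C) :
    Submonoid.powers (⟨b, hb⟩ : C) ≤ (Submonoid.powers b).comap C.subtype := by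
  rintro _ ⟨n, rfl⟩
  exact ⟨n, rfl⟩

/-- A subring containing enough numerators has the same localisation. -/
theorem bijective_away {R B Bb : Type u} [CommRing R] [CommRing B] [CommRing Bb] [Algebra B Bb]
    (π : R →+* B) (b : B) [IsLocalization.Away b Bb] (C : Subring B) (hb : b ∈ C) (hC : ∀ r, π r ∈ C)
    (s : Set Bb) (hs : Subring.closure (Set.range ((algebraMap B Bb).comp π) ∪ s) = ⊤)
    (hnum : ∀ y ∈ s, ∃ (n : ℕ) (x : B), x ∈ C ∧ y * algebraMap B Bb b ^ n = algebraMap B Bb x) :
    Function.Bijective (IsLocalization.map (S := Localization.Away (⟨b, hb⟩ : C)) Bb C.subtype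
      (powers_le_comap hb)) := by
  let Cb := Localization.Away (⟨b, hb⟩ : C)
  let Φ : Cb →+* Bb := IsLocalization.map Bb C.subtype (powers_le_comap hb)
  have hΦ : ∀ c : C, Φ (algebraMap C Cb c) = algebraMap B Bb c := fun c => IsLocalization.map_eq _ _
  refine ⟨(injective_iff_map_eq_zero Φ).2 fun z hz => ?_, fun y => ?_⟩
  · obtain ⟨n, c, hc⟩ := IsLocalization.Away.surj (⟨b, hb⟩ : C) z
    have h0 : algebraMap B Bb c = 0 := by rw [← hΦ, ← hc, map_mul, hz, zero_mul]
    obtain ⟨⟨_, k, rfl⟩, hk⟩ := (IsLocalization.map_eq_zero_iff (Submonoid.powers b) Bb (c : B)).1 h0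
    have hu := (IsLocalization.Away.algebraMap_isUnit (S := Cb) (⟨b, hb⟩ : C)).pow n
    refine hu.mul_left_eq_zero.1 (hc.trans ?_)
    exact (IsLocalization.map_eq_zero_iff (Submonoid.powers (⟨b, hb⟩ : C)) Cb c).2
      ⟨⟨_, k, rfl⟩, Subtype.ext hk⟩
  · have : y ∈ Subring.closure (Set.range ((algebraMap B Bb).comp π) ∪ s) := hs ▸ trivial
    induction this using Subring.closure_induction with
    | mem y hy =>
      rcases hy with ⟨r, rfl⟩ | hy
      · exact ⟨algebraMap C Cb ⟨π r, hC r⟩, hΦ _⟩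
      · obtain ⟨n, x, hx, he⟩ := hnum y hy
        refine ⟨algebraMap C Cb ⟨x, hx⟩ * IsLocalization.Away.invSelf (⟨b, hb⟩ : C) ^ n, ?_⟩
        refine ((IsLocalization.Away.algebraMap_isUnit (S := Bb) b).pow n).mul_left_injective ?_
        change Φ _ * algebraMap B Bb b ^ n = y * algebraMap B Bb b ^ n
        have h1 : algebraMap B Bb b = Φ (algebraMap C Cb ⟨b, hb⟩) := (hΦ ⟨b, hb⟩).symm
        rw [h1, ← map_pow, ← map_mul, mul_assoc, ← mul_pow, mul_comm (IsLocalization.Away.invSelf _),
          IsLocalization.Away.mul_invSelf, one_pow, mul_one, hΦ, map_pow, hΦ]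
        exact he.symm
    | zero => exact ⟨0, map_zero Φ⟩
    | one => exact ⟨1, map_one Φ⟩
    | add x y _ _ hx hy =>
      obtain ⟨a, rfl⟩ := hx; obtain ⟨c, rfl⟩ := hy
      exact ⟨a + c, map_add Φ a c⟩
    | neg x _ hx => obtain ⟨a, rfl⟩ := hx; exact ⟨-a, map_neg Φ a⟩
    | mul x y _ _ hx hy =>
      obtain ⟨a, rfl⟩ := hx; obtain ⟨c, rfl⟩ := hy
      exact ⟨a * c, map_mul Φ a c⟩

end Groth.Agent.H8.ZMT.Alg
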