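import Groth.Agent.H8.ZMT.Alg
import Mathlib.AlgebraicGeometry.Morphisms.LocalIso
import Mathlib.AlgebraicGeometry.Morphisms.Etale
import Mathlib.AlgebraicGeometry.Morphisms.UniversallyOpen
import Mathlib.AlgebraicGeometry.Morphisms.FiniteType
import Mathlib.AlgebraicGeometry.AffineScheme

/-!
# Open immersions survive in the spectrum of a large subring
-/

set_option autoImplicit false
set_option linter.style.haveILetI false
set_option backward.isDefEq.respectTransparency false
set_option backward.isDefEq.respectTransparency.types false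

universe u

open CategoryTheory CategoryTheory.Limits AlgebraicGeometry

namespace Groth.Agent.H8.ZMT.Open

/-- An injective local isomorphism is an open immersion. -/
theorem isOpenImmersion_of_isLocalIso {X Y : Scheme.{u}} (f : X ⟶ Y) [h : IsLocalIso f]
    (hinj : Function.Injective f) : IsOpenImmersion f := by
  haveI : Etale f := IsLocalIso.le_of_isZariskiLocalAtSource _ _ _ f h
  haveI : ∀ x, IsIso (f.stalkMap x) := fun x => by
    obtain ⟨U, hx, hU⟩ := h.exists_isOpenImmersion x
    have h1 := (IsOpenImmersion.iff_isIso_stalkMap.1 hU).2 ⟨x, hx⟩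
    rw [Scheme.Hom.stalkMap_comp] at h1
    exact @IsIso.of_isIso_comp_right _ _ _ _ _ (f.stalkMap (U.ι ⟨x, hx⟩)) (U.ι.stalkMap ⟨x, hx⟩) _ h1
  exact IsOpenImmersion.of_isIso_stalkMap f
    (.of_continuous_injective_isOpenMap f.continuous hinj f.isOpenMap)

/-- Enough elements of the big ring make an open immersion descend to the spectrum of a subring. -/
theorem exists_finite {R B : Type u} [CommRing R] [CommRing B] (r : R →+* B) {V : Scheme.{u}}
    (v : V ⟶ Spec (CommRingCat.of B)) [IsOpenImmersion v] [CompactSpace V]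
    [LocallyOfFiniteType (v ≫ Spec.map (CommRingCat.ofHom r))] :
    ∃ F : Set B, F.Finite ∧ ∀ C : Subring B, (∀ a, r a ∈ C) → F ⊆ C →
      IsOpenImmersion (v ≫ Spec.map (CommRingCat.ofHom C.subtype)) := by
  classical
  have hb : ∀ x : V, ∃ b : B, v x ∈ PrimeSpectrum.basicOpen b ∧
      (PrimeSpectrum.basicOpen b : Set (PrimeSpectrum B)) ⊆ Set.range v := fun x => by
    obtain ⟨_, ⟨b, rfl⟩, h1, h2⟩ := PrimeSpectrum.isTopologicalBasis_basic_opens.exists_subset_of_mem_open
      (show v x ∈ Set.range v from ⟨x, rfl⟩) v.opensRange.2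
    exact ⟨b, h1, h2⟩
  choose b hb hbV using hb
  obtain ⟨t, ht⟩ := isCompact_univ.elim_finite_subcover
    (fun x => v ⁻¹' (PrimeSpectrum.basicOpen (b x) : Set (PrimeSpectrum B)))
    (fun x => (PrimeSpectrum.basicOpen (b x)).2.preimage v.continuous)
    fun x _ => Set.mem_iUnion.2 ⟨x, hb x⟩
  let loc : ∀ x, Spec (CommRingCat.of (Localization.Away (b x))) ⟶ Spec (CommRingCat.of B) := fun x =>
    Spec.map (CommRingCat.ofHom (algebraMap B (Localization.Away (b x))))
  have hloc : ∀ x, Set.range (loc x) = (PrimeSpectrum.basicOpen (b x) : Set (PrimeSpectrum B)) := fun x =>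
    PrimeSpectrum.localization_away_comap_range _ (b x)
  haveI : ∀ x, IsOpenImmersion (loc x) := fun x => IsOpenImmersion.of_isLocalization (b x)
  let j : ∀ x, Spec (CommRingCat.of (Localization.Away (b x))) ⟶ V := fun x =>
    IsOpenImmersion.lift v (loc x) (by rw [hloc]; exact hbV x)
  have hj : ∀ x, j x ≫ v = loc x := fun x => IsOpenImmersion.lift_fac _ _ _
  have hft : ∀ x, ∃ s : Finset (Localization.Away (b x)), Subring.closure
      (Set.range ((algebraMap B (Localization.Away (b x))).comp r) ∪ s) = ⊤ := fun x => by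
    haveI : IsOpenImmersion (j x) := by
      have : IsOpenImmersion (j x ≫ v) := by rw [hj]; infer_instance
      exact IsOpenImmersion.of_comp (j x) v
    have h : LocallyOfFiniteType (Spec.map (CommRingCat.ofHom ((algebraMap B (Localization.Away (b x))).comp r))) := by
      have : Spec.map (CommRingCat.ofHom ((algebraMap B (Localization.Away (b x))).comp r)) =
          j x ≫ v ≫ Spec.map (CommRingCat.ofHom r) := by
        rw [← Category.assoc, hj, ← Spec.map_comp, CommRingCat.ofHom_comp]
      rw [this]
      infer_instance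
    have h' : ((algebraMap B (Localization.Away (b x))).comp r).FiniteType :=
      (HasRingHomProperty.Spec_iff (P := @LocallyOfFiniteType)).1 h
    letI := ((algebraMap B (Localization.Away (b x))).comp r).toAlgebra
    haveI : Algebra.FiniteType R (Localization.Away (b x)) := h'
    obtain ⟨s, hs⟩ := (Algebra.FiniteType.out : (⊤ : Subalgebra R (Localization.Away (b x))).FG)
    refine ⟨s, ?_⟩
    rw [← Algebra.top_toSubring (R := R), ← hs, Algebra.adjoin_eq_ring_closure]
    rfl
  choose s hs using hft
  have hnum : ∀ x (y : Localization.Away (b x)), ∃ (n : ℕ) (z : B),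
      y * algebraMap B (Localization.Away (b x)) (b x) ^ n = algebraMap B (Localization.Away (b x)) z :=
    fun x y => IsLocalization.Away.surj (b x) y
  choose n z hz using hnum
  refine ⟨↑(t.image b) ∪ ⋃ x ∈ t, z x '' ↑(s x), (t.image b).finite_toSet.union
    (t.finite_toSet.biUnion fun x _ => (s x).finite_toSet.image _), fun C hC hF => ?_⟩
  have hbC : ∀ x ∈ t, b x ∈ C := fun x hx => hF (Or.inl (Finset.mem_image_of_mem b hx))
  let π := Spec.map (CommRingCat.ofHom C.subtype)
  have hiso : ∀ x ∈ t, IsOpenImmersion (loc x ≫ π) := fun x hx => by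
    haveI : IsIso (CommRingCat.ofHom (IsLocalization.map (S := Localization.Away (⟨b x, hbC x hx⟩ : C))
        (Localization.Away (b x)) C.subtype (Alg.powers_le_comap (hbC x hx)))) :=
      (ConcreteCategory.isIso_iff_bijective _).2 (Alg.bijective_away r (b x) C (hbC x hx) hC _ (hs x)
        fun y hy => ⟨n x y, z x y,
          hF (Or.inr (Set.mem_biUnion hx (Set.mem_image_of_mem _ hy))), hz x y⟩)
    haveI := IsOpenImmersion.of_isLocalization (S := Localization.Away (⟨b x, hbC x hx⟩ : C)) (⟨b x, hbC x hx⟩ : C)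
    have e : loc x ≫ π = Spec.map (CommRingCat.ofHom (IsLocalization.map (S := Localization.Away (⟨b x, hbC x hx⟩ : C))
        (Localization.Away (b x)) C.subtype (Alg.powers_le_comap (hbC x hx)))) ≫
        Spec.map (CommRingCat.ofHom (algebraMap C (Localization.Away (⟨b x, hbC x hx⟩ : C)))) := by
      rw [← Spec.map_comp, ← Spec.map_comp, ← CommRingCat.ofHom_comp, ← CommRingCat.ofHom_comp,
        IsLocalization.map_comp]
    rw [e]
    infer_instance
  haveI : IsLocalIso (v ≫ π) := ⟨fun y => by
    obtain ⟨x, hx, hy⟩ := Set.mem_iUnion₂.1 (ht (Set.mem_univ y))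
    haveI : IsOpenImmersion (j x) := by
      have : IsOpenImmersion (j x ≫ v) := by rw [hj]; infer_instance
      exact IsOpenImmersion.of_comp (j x) v
    have hy' : y ∈ (j x).opensRange := by
      obtain ⟨w, hw⟩ : v y ∈ Set.range (loc x) := by rw [hloc]; exact hy
      refine ⟨w, v.isOpenEmbedding.injective ?_⟩
      rw [← Scheme.Hom.comp_apply, hj, hw]
    haveI := hiso x hx
    refine ⟨(j x).opensRange, hy', ?_⟩
    have e : (j x).opensRange.ι ≫ v ≫ π = (j x).isoOpensRange.inv ≫ loc x ≫ π := by
      rw [← hj x, Category.assoc, ← Category.assoc (j x).isoOpensRange.inv, Scheme.Hom.isoOpensRange_inv_comp]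
    rw [e]
    infer_instance⟩
  refine isOpenImmersion_of_isLocalIso _ fun y y' e => ?_
  obtain ⟨x, hx, hy⟩ := Set.mem_iUnion₂.1 (ht (Set.mem_univ y))
  have he : PrimeSpectrum.comap C.subtype (v y) = PrimeSpectrum.comap C.subtype (v y') := e
  have hy' : v y' ∈ PrimeSpectrum.basicOpen (b x) := by
    intro h
    have h1 : (⟨b x, hbC x hx⟩ : C) ∈ (PrimeSpectrum.comap C.subtype (v y')).asIdeal := h
    rw [← he] at h1
    exact hy h1
  obtain ⟨w, hw⟩ : v y ∈ Set.range (loc x) := by rw [hloc]; exact hy
  obtain ⟨w', hw'⟩ : v y' ∈ Set.range (loc x) := by rw [hloc]; exact hy'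
  haveI := hiso x hx
  refine v.isOpenEmbedding.injective ?_
  rw [← hw, ← hw', (loc x ≫ π).isOpenEmbedding.injective (show (loc x ≫ π) w = (loc x ≫ π) w' by
    rw [Scheme.Hom.comp_apply, Scheme.Hom.comp_apply, hw, hw']; exact e)]

end Groth.Agent.H8.ZMT.Open
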