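import Groth.Agent.H8.ZMT.Map
import Groth.Agent.H8.ZMT.Open
import Groth.Agent.Lib.AlgSpMor.RelNorm.OpenImm
import Groth.Agent.Lib.AlgSpMor.QC
import Groth.Agent.Lib.AlgSpMor.Perm
import Groth.Agent.Lib.AlgSpMor.Sep
import Groth.Agent.Lib.AlgSpMor.RepBySp

/-!
# A finite space containing a quasi-compact open subspace of an integral one
-/

set_option autoImplicit false
set_option linter.style.haveILetI false
set_option backward.isDefEq.respectTransparency false
set_option backward.isDefEq.respectTransparency.types false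

universe u

open CategoryTheory CategoryTheory.Limits AlgebraicGeometry Opposite
open AlgSp (Sp yon RepWith IsAlgSpace EtOver sectModEt unitModEt LocP)
open Groth.Agent.Lib.AlgSpace Groth.Agent.Lib.AlgSpMor Groth.Agent.Lib.EtMod
open Groth.Agent.Lib.EtMod.SubFam Groth.Agent.H8.RelSpec

namespace Groth.Agent.H8.ZMT

variable {S : Scheme.{u}} {Y Y' : Sp S} {ν : Y' ⟶ Y} (hν : RepWith @IsIntegralHom ν)

theorem isFinite_sys_ν (N : SubOn (Amb.top (pushM hν.1 (unitModEt Y'))) Set.univ) (E : Aff Y) :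
    IsFinite ((sys hν N).ν E).left := by
  haveI := isAffine_bcE' hν E.1
  haveI := isIntegralHom_bcP hν E.1
  have hint : (πfn hν.1 E.1).IsIntegral :=
    IsIntegralHom.isIntegral_app (f := bcP hν.1 E.1) ⊤ (isAffineOpen_top _)
  letI := (πfn hν.1 E.1).toAlgebra
  obtain ⟨F, hF⟩ := N.fg E.1 (Set.subset_univ _)
  let G : Set (fn (bcE hν.1 E.1)) := (fun s => (unitSec (bcE hν.1 E.1)).symm (show sectModEt (unitModEt Y') (bcE hν.1 E.1) from s)) ''
    (F : Set (sectModEt (pushM hν.1 (unitModEt Y')) E.1))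
  have hGN : gens hν N E.1 ⊆ Algebra.adjoin (fn E.1) G := fun x hx => by
    have h : (show sectModEt (pushM hν.1 (unitModEt Y')) E.1 from unitSec (bcE hν.1 E.1) x) ∈
        Submodule.span (fn E.1) (F : Set (sectModEt (pushM hν.1 (unitModEt Y')) E.1)) := hF ▸ hx
    have key : ∀ s ∈ Submodule.span (fn E.1) (F : Set (sectModEt (pushM hν.1 (unitModEt Y')) E.1)),
        (unitSec (bcE hν.1 E.1)).symm s ∈ Algebra.adjoin (fn E.1) G := fun s hs => by
      refine Submodule.span_induction (fun s hs => Algebra.subset_adjoin ⟨s, hs, rfl⟩) ?_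
        (fun s t _ _ hs ht => ?_) (fun a s _ hs => ?_) hs
      · rw [map_zero]; exact zero_mem _
      · rw [map_add]; exact add_mem hs ht
      · obtain ⟨y, rfl⟩ := (unitSec (bcE hν.1 E.1)).surjective s
        exact mul_mem (Subalgebra.algebraMap_mem _ a) hs
    simpa using key _ h
  have hle : alg hν N E.1 ≤ (Algebra.adjoin (fn E.1) G).toSubring :=
    Subring.closure_le.2 (Set.union_subset (by rintro _ ⟨a, rfl⟩; exact Subalgebra.algebraMap_mem _ a) hGN)
  have hge : (Algebra.adjoin (fn E.1) G).toSubring ≤ alg hν N E.1 := by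
    rw [Algebra.adjoin_eq_ring_closure]
    refine Subring.closure_le.2 (Set.union_subset (by rintro _ ⟨a, rfl⟩; exact πfn_mem hν N E.1 a) ?_)
    rintro _ ⟨s, hs, rfl⟩
    refine Subring.subset_closure (Or.inr ?_)
    change _ ∈ N.N E.1
    have : s ∈ N.N E.1 := hF ▸ Submodule.subset_span hs
    simpa using this
  have hfin : (Algebra.adjoin (fn E.1) G).toSubmodule.FG :=
    fg_adjoin_of_finite (F.finite_toSet.image _) fun x _ => hint x
  have : (algπ hν N E.1).Finite := by
    let e : (Algebra.adjoin (fn E.1) G) →+* alg hν N E.1 :=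
      ((Algebra.adjoin (fn E.1) G).toSubring.subtype).codRestrict _ fun x => hge x.2
    have hcomp : algπ hν N E.1 = e.comp (algebraMap (fn E.1) (Algebra.adjoin (fn E.1) G)) :=
      RingHom.ext fun a => Subtype.ext rfl
    rw [hcomp]
    refine RingHom.Finite.comp (RingHom.Finite.of_surjective e fun x => ⟨⟨x.1, hle x.2⟩, Subtype.ext rfl⟩) ?_
    rw [RingHom.finite_algebraMap]
    exact Module.Finite.iff_fg.2 hfin
  change IsFinite (Spec.map (CommRingCat.ofHom (algπ hν N E.1)) ≫ E.1.obj.left.left.isoSpec.inv)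
  haveI : IsFinite (Spec.map (CommRingCat.ofHom (algπ hν N E.1))) := (IsFinite.SpecMap_iff _).2 this
  infer_instance

end Groth.Agent.H8.ZMT

namespace Groth.Agent.H8.ZMT.Main

variable {S : Scheme.{u}} [QuasiSeparatedSpace ↥S]

set_option maxHeartbeats 1000000 in

/-- A quasi-compact open subspace of finite type of an integral space embeds in a finite one. -/
theorem exists_finite_factor (X Y : AlgSp.Space S) {Y' : Sp S} {ν : Y' ⟶ Y.obj}
    (hν : RepWith @IsIntegralHom ν) {f' : X.obj ⟶ Y'} (hf' : RepWith @IsOpenImmersion f')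
    (hf'qc : AlgSp.IsQuasiCompactMor f') (hfqc : AlgSp.IsQuasiCompactMor (f' ≫ ν)) (hft : LocP @LocallyOfFiniteType (f' ≫ ν))
    (hYqc : AlgSp.IsQuasiCompactSp Y.obj) (hYqs : AlgSp.IsQuasiSeparatedSp Y.obj) :
    ∃ (T : AlgSp.Space S) (j : X ⟶ T) (π : T ⟶ Y), j.hom ≫ π.hom = f' ≫ ν ∧
      RepWith @IsOpenImmersion j.hom ∧ AlgSp.IsQuasiCompactMor j.hom ∧ AlgSp.IsFiniteMor π.hom := by
  haveI := QC.compactSpace_points hYqc
  obtain ⟨U, p, hU, hp, hps⟩ := QC.exists_affine_atlas Y.property
  let E : Aff Y.obj := ⟨EtOver.mk p hp, hU⟩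
  haveI : IsAffine E.1.obj.left.left := hU
  haveI := isAffine_bcE' hν E.1
  obtain ⟨V, v, c, sqV, hv⟩ := repWith_exists hf' (hν.1.fst E.1.obj.hom)
  have sqVY := sqV.paste_vert (hν.1.isPullback E.1.obj.hom)
  haveI : IsOpenImmersion v.left := hv
  haveI : QuasiCompact v.left :=
    repWith_property ((QC.repWith_quasiCompact_iff hf'.1).2 hf'qc) sqV
  haveI : CompactSpace (bcE hν.1 E.1).obj.left.left := inferInstance
  haveI : CompactSpace (hν.1.pullback E.1.obj.hom).left := ‹_›
  haveI : CompactSpace V.left := QuasiCompact.compactSpace_of_compactSpace v.left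
  have hlft : LocallyOfFiniteType (v.left ≫ bcP hν.1 E.1) :=
    hft c p (v ≫ hν.1.snd E.1.obj.hom) (repWith_baseChange sqVY.flip hp) hp
      (by rw [Functor.map_comp]; exact sqVY.w)
  let iso := (bcE hν.1 E.1).obj.left.left.isoSpec
  haveI : LocallyOfFiniteType ((v.left ≫ iso.hom) ≫ Spec.map (CommRingCat.ofHom (πfn hν.1 E.1))) := by
    have e : iso.hom ≫ Spec.map (CommRingCat.ofHom (πfn hν.1 E.1)) =
        bcP hν.1 E.1 ≫ E.1.obj.left.left.isoSpec.hom := Scheme.isoSpec_hom_naturality _
    rw [Category.assoc, e, ← Category.assoc]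
    infer_instance
  obtain ⟨F, hFfin, hF⟩ := Open.exists_finite (πfn hν.1 E.1) (v.left ≫ iso.hom)
  haveI := hFfin.to_subtype
  obtain ⟨N, hN⟩ := exists_family_mem (M := pushM hν.1 (unitModEt Y')) hYqc hYqs
    (isCart_push hν.1 (fun Z hZ g => by
      have h := AffineDescent.isIntegralMor_iff.2 hν hZ g
      obtain ⟨W, i, fst, sq, hW, -⟩ := h
      exact ⟨W, i, fst, sq, hW⟩) isCart_unit)
    (ULift.{u + 1} F) (fun _ => E.1) (fun _ => hU) (fun x => unitSec (bcE hν.1 E.1) x.down.1)
  have hopen := hF (alg hν N E.1) (πfn_mem hν N E.1)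
    (fun x hx => Subring.subset_closure (Or.inr (hN ⟨⟨x, hx⟩⟩)))
  have hπ : RepWith @IsFinite (proj (sys hν N)) :=
    haveI := AffineDescent.isLocalAtTarget_isFinite.{u}
    repWith_proj Y.property _ AffineDescent.effective_isFinite E hps (isFinite_sys_ν hν N E)
  have hT : IsAlgSpace (spec (sys hν N)) := isAlgSpace_of_representable hπ.1 Y.property
  let j := f' ≫ toSpec hν N
  have sqj : IsPullback c ((yon S).map (v ≫ toAlg hν N E)) j (chartMap Y.property E) := by
    rw [Functor.map_comp]
    exact sqV.paste_vert (isPullback_toSpec hν N Y.property E)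
  have hvj : IsOpenImmersion (v ≫ toAlg hν N E).left := by
    change IsOpenImmersion (v.left ≫ toAlgScheme hν N E)
    unfold toAlgScheme
    rw [← Category.assoc]
    exact hopen
  have hcE := repWith_baseChange (isPullback_chartMap (D := sys hν N) Y.property E).flip hp
  have hcS := repWith_baseChange (isPullback_chartMap (D := sys hν N) Y.property E).flip hps
  have hj : RepWith @IsOpenImmersion j :=
    haveI := isLocalAtTarget_fppf @IsOpenImmersion
    RepDescent.repWith_of_cover _ RepDescent.effective_isOpenImmersion hT.diag hcE hcS sqj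
      ((AlgSp.repWith_yon_map_iff _ (v ≫ toAlg hν N E)).2 hvj)
  have hνE : IsFinite ((sys hν N).ν E).left := isFinite_sys_ν hν N E
  haveI := hνE
  haveI : @MorphismProperty.IsLocalAtTarget Scheme.{u} _ @QuasiCompact Scheme.fppfPrecoverage :=
    isLocalAtTarget_fppf @QuasiCompact
  have hdiag : RepWith @QuasiCompact (pullback.diagonal (proj (sys hν N))) :=
    Sep.repWith_diagonal_of_cover @QuasiCompact hT.diag hp hps (isPullback_chartMap Y.property E)
      (repWith_mono ((AlgSp.isSeparatedMor_yon_map_iff ((sys hν N).ν E)).2 inferInstance)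
        fun _ _ g (_ : IsClosedImmersion g) => (inferInstance : QuasiCompact g))
  have hjqc : AlgSp.IsQuasiCompactMor j := by
    refine Perm.isQuasiCompactMor_of_comp X.property hT Y.property.diag ?_ hdiag
    rw [Category.assoc, toSpec_proj]
    exact hfqc
  exact ⟨⟨_, hT⟩, ObjectProperty.homMk j, ObjectProperty.homMk (proj (sys hν N)),
    (Category.assoc f' (toSpec hν N) (proj (sys hν N))).trans (congrArg (f' ≫ ·) (toSpec_proj hν N)),
    hj, hjqc, AffineDescent.isFiniteMor_iff.2 hπ⟩

end Groth.Agent.H8.ZMT.Main
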