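import Groth.Agent.H8.ZMT.Sys

/-!
# The map to the spectrum of the generated subalgebras
-/

set_option autoImplicit false
set_option linter.style.haveILetI false
set_option backward.isDefEq.respectTransparency false
set_option backward.isDefEq.respectTransparency.types false

universe u

open CategoryTheory CategoryTheory.Limits AlgebraicGeometry Opposite
open AlgSp (Sp yon RepWith IsAlgSpace EtOver sectModEt unitModEt)
open Groth.Agent.Lib.AlgSpace Groth.Agent.Lib.EtMod Groth.Agent.Lib.EtMod.SubFam Groth.Agent.H8.RelSpec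

namespace Groth.Agent.H8.ZMT

variable {S : Scheme.{u}} {Y Y' : Sp S} {ν : Y' ⟶ Y} (hν : RepWith @IsIntegralHom ν)
  (N : SubOn (Amb.top (pushM hν.1 (unitModEt Y'))) Set.univ)

/-- The scheme morphism from the base change to the spectrum. -/
noncomputable def toAlgScheme (E : Aff Y) : (bcE hν.1 E.1).obj.left.left ⟶ (algOver hν N E).left :=
  haveI := isAffine_bcE' hν E.1
  (bcE hν.1 E.1).obj.left.left.isoSpec.hom ≫ Spec.map (CommRingCat.ofHom (alg hν N E.1).subtype)

theorem toAlgScheme_comp (E : Aff Y) :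
    toAlgScheme hν N E ≫ Spec.map (CommRingCat.ofHom (algπ hν N E.1)) ≫ E.1.obj.left.left.isoSpec.inv =
      bcP hν.1 E.1 := by
  haveI := isAffine_bcE' hν E.1
  unfold toAlgScheme
  rw [Category.assoc, ← Category.assoc (Spec.map _), ← Spec.map_comp]
  change (bcE hν.1 E.1).obj.left.left.isoSpec.hom ≫ Spec.map (bcP hν.1 E.1).appTop ≫ _ = _
  rw [Scheme.isoSpec_hom_naturality_assoc, Iso.hom_inv_id, Category.comp_id]

/-- The map from the base change to the spectrum. -/
noncomputable def toAlg (E : Aff Y) : (bcE hν.1 E.1).obj.left ⟶ (sys hν N).N E :=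
  Over.homMk (toAlgScheme hν N E) (by
    change toAlgScheme hν N E ≫ (Spec.map _ ≫ _) ≫ E.1.obj.left.hom = _
    rw [← Category.assoc, toAlgScheme_comp]
    exact Over.w (hν.1.snd E.1.obj.hom))

theorem toAlg_ν (E : Aff Y) : toAlg hν N E ≫ (sys hν N).ν E = hν.1.snd E.1.obj.hom :=
  Over.OverMorphism.ext (toAlgScheme_comp hν N E)

theorem toAlg_map {V E : Aff Y} (g : V.1 ⟶ E.1) :
    toAlg hν N V ≫ (sys hν N).map g = ((EtOver.bc hν.1).map g).hom.left ≫ toAlg hν N E := by
  haveI := isAffine_bcE' hν E.1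
  haveI := isAffine_bcE' hν V.1
  refine Over.OverMorphism.ext ?_
  change ((bcE hν.1 V.1).obj.left.left.isoSpec.hom ≫ Spec.map _) ≫ Spec.map _ =
    ((EtOver.bc hν.1).map g).hom.left.left ≫ (bcE hν.1 E.1).obj.left.left.isoSpec.hom ≫ Spec.map _
  rw [← Scheme.isoSpec_hom_naturality_assoc, Category.assoc, ← Spec.map_comp, ← Spec.map_comp]
  rfl

theorem bcMap_fst {V E : Aff Y} (g : V.1 ⟶ E.1) :
    (yon S).map ((EtOver.bc hν.1).map g).hom.left ≫ hν.1.fst E.1.obj.hom = hν.1.fst V.1.obj.hom :=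
  EtOver.w ((EtOver.bc hν.1).map g)

/-- The lift of a point to a base change. -/
noncomputable def bcLift {T A : Over S} (y : (yon S).obj T ⟶ Y') (C : Aff Y) (p : A ⟶ T)
    (v : A ⟶ C.1.obj.left) (h : (yon S).map p ≫ y ≫ ν = (yon S).map v ≫ C.1.obj.hom) :
    A ⟶ (bcE hν.1 C.1).obj.left :=
  hν.1.lift (g := C.1.obj.hom) ((yon S).map p ≫ y) v (by rw [Category.assoc]; exact h)

theorem bcLift_fst {T A : Over S} (y : (yon S).obj T ⟶ Y') (C : Aff Y) (p : A ⟶ T)
    (v : A ⟶ C.1.obj.left) (h) :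
    (yon S).map (bcLift hν y C p v h) ≫ hν.1.fst C.1.obj.hom = (yon S).map p ≫ y :=
  hν.1.lift_fst _ _ _

theorem bcLift_snd {T A : Over S} (y : (yon S).obj T ⟶ Y') (C : Aff Y) (p : A ⟶ T)
    (v : A ⟶ C.1.obj.left) (h) : bcLift hν y C p v h ≫ hν.1.snd C.1.obj.hom = v :=
  hν.1.lift_snd _ _ _

/-- The family of a point of the source. -/
noncomputable def ofSource {T : Over S} (y : (yon S).obj T ⟶ Y') : Fam (sys hν N) T where
  x := y ≫ ν
  s C A p v h := bcLift hν y C p v h ≫ toAlg hν N C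
  hover C A p v h := by rw [Category.assoc, toAlg_ν, bcLift_snd]
  natA C A p v h A' q h' := by
    refine Eq.trans ?_ (Category.assoc _ _ _)
    refine congrArg (· ≫ toAlg hν N C) (hν.1.hom_ext ?_ ?_)
    · rw [bcLift_fst, Functor.map_comp, Functor.map_comp, Category.assoc, Category.assoc, bcLift_fst]
    · rw [bcLift_snd, Category.assoc, bcLift_snd]
  natC C C' φ A p v h h' := by
    rw [Category.assoc, toAlg_map, ← Category.assoc]
    refine congrArg (· ≫ toAlg hν N C') (hν.1.hom_ext ?_ ?_)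
    · rw [bcLift_fst, Functor.map_comp, Category.assoc, bcMap_fst hν, bcLift_fst]
    · have := congrArg (fun k => k) (show ((EtOver.bc hν.1).map φ).hom.left ≫ hν.1.snd C'.1.obj.hom =
        hν.1.snd C.1.obj.hom ≫ φ.hom.left from EtOver.bcMap_snd hν.1 φ)
      rw [bcLift_snd, Category.assoc, this, ← Category.assoc, bcLift_snd]

theorem ofFam_ofSource_map {T T' : Over S} (q : T' ⟶ T) (y : (yon S).obj T ⟶ Y') :
    ofFam (ofSource hν N ((yon S).map q ≫ y)) = (yon S).map q ≫ ofFam (ofSource hν N y) :=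
  toFam_injective (by
    rw [toFam_map, toFam_ofFam, toFam_ofFam]
    refine Fam.ext' (Category.assoc _ _ _) fun C A p v h h' => ?_
    refine congrArg (· ≫ toAlg hν N C) (hν.1.hom_ext ?_ ?_)
    · rw [bcLift_fst, bcLift_fst, Functor.map_comp, Category.assoc]
    · rw [bcLift_snd, bcLift_snd])

/-- The map to the spectrum. -/
noncomputable def toSpec : Y' ⟶ spec (sys hν N) :=
  homMkYon (fun _ y => ofFam (ofSource hν N y)) (fun q y => ofFam_ofSource_map hν N q y)

theorem toFam_comp_toSpec {T : Over S} (y : (yon S).obj T ⟶ Y') :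
    toFam (y ≫ toSpec hν N) = ofSource hν N y :=
  (congrArg toFam (comp_homMkYon _ (fun q y => ofFam_ofSource_map hν N q y) y)).trans (toFam_ofFam _)

theorem toSpec_proj : toSpec hν N ≫ proj (sys hν N) = ν :=
  hom_ext fun T y => by
    rw [← Category.assoc, comp_proj, toFam_comp_toSpec]
    rfl

theorem isPullback_toSpec (hY : IsAlgSpace Y) (E : Aff Y) :
    IsPullback (hν.1.fst E.1.obj.hom) ((yon S).map (toAlg hν N E)) (toSpec hν N) (chartMap hY E) := by
  have hw : hν.1.fst E.1.obj.hom ≫ toSpec hν N = (yon S).map (toAlg hν N E) ≫ chartMap hY E := by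
    refine toFam_injective ?_
    rw [toFam_comp_toSpec, toFam_map_chartMap]
    have hx : (ofSource hν N (hν.1.fst E.1.obj.hom)).x =
        (yon S).map (toAlg hν N E ≫ (sys hν N).ν E) ≫ E.1.obj.hom := by
      rw [toAlg_ν]
      exact hν.1.w _
    refine (eq_ofPoint hY E _ (toAlg hν N E ≫ (sys hν N).ν E) hx (by simp [hx])).trans ?_
    congr 1
    change bcLift hν _ _ _ _ _ ≫ toAlg hν N E = toAlg hν N E
    refine Eq.trans (congrArg (· ≫ toAlg hν N E) (hν.1.hom_ext ?_ ?_ : _ = 𝟙 _)) (Category.id_comp _)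
    · rw [bcLift_fst]; rfl
    · rw [bcLift_snd, toAlg_ν, Category.id_comp]
  refine IsPullback.of_bot ?_ hw (isPullback_chartMap hY E)
  rw [toSpec_proj, ← Functor.map_comp, toAlg_ν]
  exact hν.1.isPullback E.1.obj.hom

end Groth.Agent.H8.ZMT
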