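import Groth.Agent.H8.ZMT.Alg
import Groth.Agent.H8.RelSpec.Main
import Groth.Agent.Lib.EtMod.Push
import Groth.Agent.Lib.EtMod.SubFam.Induct
import Groth.Agent.Lib.EtMod.SubFam.Unit
import Groth.Agent.Lib.AlgSpMor.AffineDescent

/-!
# The system of generated subalgebras of an integral morphism
-/

set_option autoImplicit false
set_option linter.style.haveILetI false
set_option backward.isDefEq.respectTransparency false
set_option backward.isDefEq.respectTransparency.types false

universe u

open CategoryTheory CategoryTheory.Limits AlgebraicGeometry Opposite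
open AlgSp (Sp yon RepWith IsAlgSpace EtOver sectModEt unitModEt)
open Groth.Agent.Lib.AlgSpace Groth.Agent.Lib.EtMod Groth.Agent.Lib.EtMod.SubFam Groth.Agent.H8.RelSpec

namespace Groth.Agent.H8.ZMT

variable {S : Scheme.{u}} {Y Y' : Sp S} {ν : Y' ⟶ Y} (hν : RepWith @IsIntegralHom ν)

theorem isIntegralHom_bcP (E : EtOver Y) : IsIntegralHom (bcP hν.1 E) :=
  hν.2 E.obj.hom _ _ (hν.1.isPullback E.obj.hom)

theorem isAffine_bcE' (E : EtOver Y) [IsAffine E.obj.left.left] : IsAffine (bcE hν.1 E).obj.left.left :=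
  haveI := isIntegralHom_bcP hν E
  isAffine_of_isAffineHom (bcP hν.1 E)

theorem πfn_nat {E V : EtOver Y} (g : V ⟶ E) (a : fn E) :
    fnMap ((EtOver.bc hν.1).map g) (πfn hν.1 E a) = πfn hν.1 V (fnMap g a) := by
  have h := congrArg (fun k => k.appTop.hom a) (isPullback_bc hν.1 g).w
  simpa only [Scheme.Hom.comp_appTop, CommRingCat.hom_comp, RingHom.comp_apply] using h

variable (N : SubOn (Amb.top (pushM hν.1 (unitModEt Y'))) Set.univ)

/-- The generators over an affine object. -/
noncomputable def gens (E : EtOver Y) : Set (fn (bcE hν.1 E)) :=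
  {x | (show sectModEt (pushM hν.1 (unitModEt Y')) E from unitSec (bcE hν.1 E) x) ∈ N.N E}

/-- The generated subring. -/
noncomputable def alg (E : EtOver Y) : Subring (fn (bcE hν.1 E)) :=
  Subring.closure (Set.range (πfn hν.1 E) ∪ gens hν N E)

theorem πfn_mem (E : EtOver Y) (a : fn E) : πfn hν.1 E a ∈ alg hν N E :=
  Subring.subset_closure (Or.inl ⟨a, rfl⟩)

theorem map_mem {E V : EtOver Y} [IsAffine E.obj.left.left] [IsAffine V.obj.left.left] (g : V ⟶ E)
    (x : fn (bcE hν.1 E)) (hx : x ∈ alg hν N E) : fnMap ((EtOver.bc hν.1).map g) x ∈ alg hν N V := by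
  induction hx using Subring.closure_induction with
  | mem x hx =>
    rcases hx with ⟨a, rfl⟩ | hx
    · rw [πfn_nat hν]; exact πfn_mem hν N V _
    · refine Subring.subset_closure (Or.inr ?_)
      change _ ∈ N.N V
      rw [← N.map_eq g (Set.subset_univ _)]
      exact res_mem_pushSub g hx
  | zero => rw [map_zero]; exact zero_mem _
  | one => rw [map_one]; exact one_mem _
  | add x y _ _ hx hy => rw [map_add]; exact add_mem hx hy
  | neg x _ hx => rw [map_neg]; exact neg_mem hx
  | mul x y _ _ hx hy => rw [map_mul]; exact mul_mem hx hy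

/-- The restriction on generated subrings. -/
noncomputable def algMap {E V : EtOver Y} [IsAffine E.obj.left.left] [IsAffine V.obj.left.left] (g : V ⟶ E) :
    alg hν N E →+* alg hν N V :=
  ((fnMap ((EtOver.bc hν.1).map g)).comp (alg hν N E).subtype).codRestrict _ fun x => map_mem hν N g x x.2

/-- The structure map of the generated subring. -/
noncomputable def algπ (E : EtOver Y) : fn E →+* alg hν N E :=
  (πfn hν.1 E).codRestrict _ (πfn_mem hν N E)

theorem gen_le {E V : EtOver Y} [IsAffine E.obj.left.left] [IsAffine V.obj.left.left] (g : V ⟶ E) :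
    alg hν N V ≤ Subring.closure (Set.range (πfn hν.1 V) ∪ fnMap ((EtOver.bc hν.1).map g) '' (alg hν N E)) := by
  let T := Subring.closure (Set.range (πfn hν.1 V) ∪ fnMap ((EtOver.bc hν.1).map g) '' (alg hν N E))
  refine Subring.closure_le.2 (Set.union_subset (fun x hx => Subring.subset_closure (Or.inl hx)) fun x hx => ?_)
  have h : (show sectModEt (pushM hν.1 (unitModEt Y')) V from unitSec (bcE hν.1 V) x) ∈ N.N V := hx
  rw [← N.map_eq g (Set.subset_univ _)] at h
  have key : ∀ s ∈ pushSub g (N.N E), (unitSec (bcE hν.1 V)).symm s ∈ T := fun s hs => by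
    refine Submodule.span_induction (fun s hs => ?_) ?_ (fun s t _ _ hs ht => ?_) (fun a s _ hs => ?_) hs
    · obtain ⟨t, ht, rfl⟩ := hs
      refine Subring.subset_closure (Or.inr ⟨(unitSec (bcE hν.1 E)).symm t,
        Subring.subset_closure (Or.inr ?_), ?_⟩)
      · change _ ∈ N.N E
        simpa using ht
      · obtain ⟨y, rfl⟩ := (unitSec (bcE hν.1 E)).surjective t
        rfl
    · rw [map_zero]; exact zero_mem _
    · rw [map_add]; exact add_mem hs ht
    · obtain ⟨y, rfl⟩ := (unitSec (bcE hν.1 V)).surjective s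
      exact mul_mem (Subring.subset_closure (Or.inl ⟨a, rfl⟩)) hs
  simpa using key _ h

theorem isPushout_alg {E V : EtOver Y} [IsAffine E.obj.left.left] [IsAffine V.obj.left.left] (g : V ⟶ E) :
    IsPushout (CommRingCat.ofHom (fnMap g)) (CommRingCat.ofHom (algπ hν N E))
      (CommRingCat.ofHom (algπ hν N V)) (CommRingCat.ofHom (algMap hν N g)) := by
  haveI := isAffine_bcE' hν E
  haveI := isAffine_bcE' hν V
  exact Alg.isPushout_closure (fnMap g) (πfn hν.1 E) (πfn hν.1 V) (fnMap ((EtOver.bc hν.1).map g))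
    (flat_fn g) (isPushout_appTop_of_isPullback (isPullback_bc hν.1 g).flip) _ _ _ _
    (fun x hx => map_mem hν N g x hx) (gen_le hν N g)

/-- The scheme of a generated subring. -/
noncomputable abbrev algOver (E : Aff Y) : Over S :=
  Over.mk ((Spec.map (CommRingCat.ofHom (algπ hν N E.1)) ≫ E.1.obj.left.left.isoSpec.inv) ≫ E.1.obj.left.hom)

theorem specMap_algMap_w {V E : Aff Y} (g : V.1 ⟶ E.1) :
    Spec.map (CommRingCat.ofHom (algMap hν N g)) ≫ Spec.map (CommRingCat.ofHom (algπ hν N E.1)) ≫
        E.1.obj.left.left.isoSpec.inv =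
      (Spec.map (CommRingCat.ofHom (algπ hν N V.1)) ≫ V.1.obj.left.left.isoSpec.inv) ≫ g.hom.left.left := by
  have h := (isPushout_alg hν N g).w
  rw [← Category.assoc, ← Spec.map_comp, ← h, Spec.map_comp, Category.assoc, Category.assoc]
  exact congrArg _ (Scheme.isoSpec_inv_naturality g.hom.left.left)

/-- The system of generated subrings. -/
noncomputable def sys : Sys Y where
  N := algOver hν N
  ν E := Over.homMk (Spec.map (CommRingCat.ofHom (algπ hν N E.1)) ≫ E.1.obj.left.left.isoSpec.inv) rfl
  affine E := by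
    change IsAffineHom (Spec.map (CommRingCat.ofHom (algπ hν N E.1)) ≫ E.1.obj.left.left.isoSpec.inv)
    infer_instance
  map {V E} g := Over.homMk (Spec.map (CommRingCat.ofHom (algMap hν N g))) (by
    change _ ≫ (_ ≫ _) ≫ E.1.obj.left.hom = (_ ≫ _) ≫ V.1.obj.left.hom
    rw [← Category.assoc, specMap_algMap_w, Category.assoc _ g.hom.left.left, Over.w g.hom.left])
  cart {V E} g := by
    refine IsPullback.of_map (Over.forget S) ?_ ?_
    · exact Over.OverMorphism.ext (specMap_algMap_w hν N g)
    · refine (isPullback_SpecMap_of_isPushout _ _ _ _ (isPushout_alg hν N g).flip).of_iso (Iso.refl _)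
        (Iso.refl _) V.1.obj.left.left.isoSpec.symm E.1.obj.left.left.isoSpec.symm ?_ ?_ ?_ ?_
      · simp
      · simp
      · simp
      · simp [Scheme.isoSpec_inv_naturality]
  map_comp {W V E} h g := by
    refine Over.OverMorphism.ext ?_
    change Spec.map _ = Spec.map _ ≫ Spec.map _
    rw [← Spec.map_comp, ← CommRingCat.ofHom_comp]
    refine congrArg (fun k => Spec.map (CommRingCat.ofHom k)) (RingHom.ext fun x => Subtype.ext ?_)
    change fnMap ((EtOver.bc hν.1).map (h ≫ g)) x.1 = _
    rw [Functor.map_comp, fnMap_comp_apply]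
    rfl

end Groth.Agent.H8.ZMT
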